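import Mathlib
import Cfsg.Agent.SylSeventeen.Counts
import Cfsg.Agent.BrauerReynolds.Main
import Cfsg.Agent.AutPSL.Card

/-!
Groups with the Sylow numbers of `PSL(2,17)`.
-/

set_option autoImplicit false

namespace CfsgLib.SylSeventeen

open Matrix
open scoped Pointwise

/-- Base change of `PSL₂` along an isomorphism of fields. -/
noncomputable def pslFieldCongr {K L : Type*} [Field K] [Field L] (f : K ≃+* L) :
    ProjectiveSpecialLinearGroup (Fin 2) K ≃* ProjectiveSpecialLinearGroup (Fin 2) L :=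
  let φ : SpecialLinearGroup (Fin 2) K ≃* SpecialLinearGroup (Fin 2) L :=
    MulEquiv.ofBijective (Matrix.SpecialLinearGroup.map (f : K →+* L))
      ⟨fun a b h => by
        ext i j
        exact f.injective (congrArg (fun m : SpecialLinearGroup (Fin 2) L => m i j) h),
       fun b => ⟨Matrix.SpecialLinearGroup.map (f.symm : L →+* K) b, by
        ext i j
        exact f.apply_symm_apply (b i j)⟩⟩
  QuotientGroup.congr _ _ φ (by
    ext y
    show y ∈ Subgroup.map φ.toMonoidHom _ ↔ _
    rw [Subgroup.mem_map_equiv, Subgroup.mem_center_iff, Subgroup.mem_center_iff]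
    constructor
    · intro h x
      exact φ.symm.injective (by rw [map_mul, map_mul]; exact h _)
    · intro h x
      exact φ.injective (by rw [map_mul, map_mul, φ.apply_symm_apply]; exact h _))

variable {Ω : Type*} [Finite Ω]

/-- A transitive group of degree 18 with a normalised element of order 17 fixing one point. -/
theorem perm_group (hΩ : Nat.card Ω = 18) (X : Subgroup (Equiv.Perm Ω)) (a : Ω) (σ : Equiv.Perm Ω)
    (hσX : σ ∈ X) (hσa : σ a = a) (hσ17 : σ ^ 17 = 1) (hσ1 : σ ≠ 1)
    (hN : ∀ x ∈ X, x a = a → x * σ * x⁻¹ ∈ Subgroup.zpowers σ) (htr : ∀ b, ∃ x ∈ X, x a = b)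
    {F : Type*} [Field F] [Fintype F] (hF : Fintype.card F = 17) :
    Nat.card ↥X ∣ 4896 ∧ ∃ D : Subgroup ↥X, D.Normal ∧ Subgroup.centralizer (D : Set ↥X) = ⊥ ∧
      Nonempty (↥D ≃* ProjectiveSpecialLinearGroup (Fin 2) F) := by
  classical
  haveI : Fintype Ω := Fintype.ofFinite Ω
  haveI : Fact (Nat.Prime 17) := ⟨by norm_num⟩
  have hord : orderOf σ = 17 := orderOf_eq_prime hσ17 hσ1
  have hσn : ∀ (n : ℕ), (σ ^ n) a = a := by
    intro n
    induction n with
    | zero => rfl
    | succ n ih => rw [pow_succ, Equiv.Perm.mul_apply, hσa, ih]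
  have hσz : ∀ (n : ℤ), (σ ^ n) a = a := by
    intro n
    have h : σ ^ n = σ ^ (n % 17).toNat := by
      rw [← zpow_natCast, Int.toNat_of_nonneg (Int.emod_nonneg n (by norm_num)),
        ← zpow_mod_orderOf σ n, hord]
      rfl
    rw [h]
    exact hσn _
  obtain ⟨b₀, hb₀⟩ : ∃ b, σ b ≠ b := by
    by_contra h
    push Not at h
    exact hσ1 (Equiv.ext h)
  set f : Fin 17 → Ω := fun i => (σ ^ (i : ℕ)) b₀ with hf
  have hinj : Function.Injective f := by
    intro i j hij
    by_contra hne
    wlog hlt : (i : ℕ) < j generalizing i j with H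
    · exact H hij.symm (Ne.symm hne) (by have := Fin.val_ne_of_ne hne; omega)
    have h1 : (σ ^ ((j : ℕ) - i)) b₀ = b₀ := by
      apply (σ ^ (i : ℕ)).injective
      rw [← Equiv.Perm.mul_apply, ← pow_add, Nat.add_sub_cancel' hlt.le]
      exact hij.symm
    have hco : Nat.Coprime ((j : ℕ) - i) 17 :=
      ((Nat.Prime.coprime_iff_not_dvd (by norm_num)).2 (Nat.not_dvd_of_pos_of_lt (by omega) (by omega))).symm
    obtain ⟨m, hm⟩ := exists_pow_eq_self_of_coprime (by rw [hord]; exact hco)
    apply hb₀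
    have h2 : ((σ ^ ((j : ℕ) - i)) ^ m) b₀ = b₀ := by
      generalize m = m'
      induction m' with
      | zero => rfl
      | succ n ih => rw [pow_succ, Equiv.Perm.mul_apply, h1, ih]
    rwa [hm] at h2
  have hb₀a : b₀ ≠ a := fun h => hb₀ (by rw [h, hσa])
  have hfa : ∀ i, f i ≠ a := by
    intro i h
    refine hb₀a ((σ ^ (i : ℕ)).injective ?_)
    rw [hσn]
    exact h
  have horb : ∀ b, b ≠ a → ∃ i : ℕ, (σ ^ i) b₀ = b := by
    intro b hb
    have himg : Finset.univ.image f = Finset.univ.erase a := by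
      refine Finset.eq_of_subset_of_card_le ?_ ?_
      · intro x hx
        obtain ⟨i, -, rfl⟩ := Finset.mem_image.1 hx
        simp [hfa i]
      · rw [Finset.card_image_of_injective _ hinj, Finset.card_erase_of_mem (Finset.mem_univ _),
          Finset.card_univ, Finset.card_univ, Fintype.card_fin, ← Nat.card_eq_fintype_card, hΩ]
    have : b ∈ Finset.univ.image f := by rw [himg]; simp [hb]
    obtain ⟨i, -, hi⟩ := Finset.mem_image.1 this
    exact ⟨i, hi⟩
  have hcent : ∀ c : Equiv.Perm Ω, c a = a → c * σ = σ * c → c ∈ Subgroup.zpowers σ := by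
    intro c hca hcσ
    have hne : c b₀ ≠ a := fun h => hb₀a (c.injective (h.trans hca.symm))
    obtain ⟨i, hi⟩ := horb _ hne
    have hc : Commute c σ := hcσ
    have : c = σ ^ i := by
      refine Equiv.ext fun b => ?_
      rcases eq_or_ne b a with rfl | hb
      · rw [hca, hσn]
      · obtain ⟨j, rfl⟩ := horb b hb
        rw [← Equiv.Perm.mul_apply, (hc.pow_right j).eq, Equiv.Perm.mul_apply, ← hi,
          ← Equiv.Perm.mul_apply, ← Equiv.Perm.mul_apply, ← pow_add, ← pow_add, add_comm]
    rw [this]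
    exact Subgroup.pow_mem _ (Subgroup.mem_zpowers σ) i
  have htrans : MulAction.IsPretransitive ↥X Ω := ⟨fun b c => by
    obtain ⟨x, hx, hxb⟩ := htr b
    obtain ⟨y, hy, hyc⟩ := htr c
    refine ⟨⟨y, hy⟩ * ⟨x, hx⟩⁻¹, ?_⟩
    show (y * x⁻¹) b = c
    rw [Equiv.Perm.mul_apply, Equiv.Perm.inv_def, ← hxb, Equiv.symm_apply_apply, hyc]⟩
  set σ' : ↥X := ⟨σ, hσX⟩ with hσ'
  set C : Subgroup ↥X := Subgroup.zpowers σ' with hC
  set Xa : Subgroup ↥X := MulAction.stabilizer ↥X a with hXa
  have hord' : orderOf σ' = 17 := by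
    rw [← hord]
    exact (orderOf_injective X.subtype Subtype.val_injective σ').symm
  have hcardC : Nat.card C = 17 := by rw [hC, Nat.card_zpowers, hord']
  have hmemC : ∀ x : ↥X, (x : Equiv.Perm Ω) ∈ Subgroup.zpowers σ → x ∈ C := by
    intro x hx
    obtain ⟨k, hk⟩ := Subgroup.mem_zpowers_iff.1 hx
    exact Subgroup.mem_zpowers_iff.2 ⟨k, Subtype.ext (by rw [SubgroupClass.coe_zpow]; exact hk)⟩
  have hXaN : Xa ≤ Subgroup.normalizer (C : Set ↥X) := by
    intro x hx
    refine Subgroup.mem_normalizer_fintype ?_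
    intro c hc
    obtain ⟨k, rfl⟩ := Subgroup.mem_zpowers_iff.1 hc
    rw [← conj_zpow]
    exact Subgroup.zpow_mem _ (hmemC _ (hN x x.2 hx)) k
  have hcardX : Nat.card ↥X ∣ 4896 := by
    let g : ↥Xa →* MulAut ↥C := C.normalizerMonoidHom.comp (Subgroup.inclusion hXaN)
    have hker : g.ker.map Xa.subtype ≤ C := by
      intro x hx
      obtain ⟨x', hx', rfl⟩ := Subgroup.mem_map.1 hx
      refine hmemC _ (hcent _ x'.2 ?_)
      have h1 := DFunLike.congr_fun hx' ⟨σ', Subgroup.mem_zpowers σ'⟩
      have h2 := congrArg (fun z : ↥C => ((z : ↥X) : Equiv.Perm Ω)) h1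
      have h3 : ((x' : ↥X) : Equiv.Perm Ω) * σ * ((x' : ↥X) : Equiv.Perm Ω)⁻¹ = σ := h2
      exact mul_inv_eq_iff_eq_mul.1 h3
    have h1 : Nat.card g.ker ∣ 17 := by
      rw [← hcardC, ← Subgroup.card_map_of_injective (K := g.ker) Xa.subtype_injective]
      exact Subgroup.card_dvd_of_le hker
    have h2 : Nat.card g.range ∣ 16 := by
      have h := Subgroup.card_subgroup_dvd_card g.range
      haveI : IsCyclic ↥C := inferInstance
      rwa [IsCyclic.card_mulAut, hcardC, Nat.totient_prime (by norm_num)] at h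
    have h3 : Nat.card ↥Xa ∣ 17 * 16 := by
      rw [← Subgroup.card_mul_index g.ker, Subgroup.index_ker]
      exact Nat.mul_dvd_mul h1 h2
    rw [← Subgroup.index_mul_card Xa, hXa, MulAction.index_stabilizer_of_transitive ↥X a, hΩ, ← hXa]
    exact (Nat.mul_dvd_mul_left 18 h3).trans (by norm_num)
  refine ⟨hcardX, ?_⟩
  -- nontrivial normal subgroups are transitive
  have hnorm : ∀ N : Subgroup ↥X, N.Normal → N ≠ ⊥ → ∀ b, ∃ n ∈ N, n • a = b := by
    intro N hNn hN1 b
    obtain ⟨n, hn, hna⟩ : ∃ n ∈ N, n • a ≠ a := by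
      by_contra h
      push Not at h
      refine hN1 (Subgroup.eq_bot_iff_forall _ |>.2 fun n hn => Subtype.ext (Equiv.ext fun b => ?_))
      obtain ⟨x, hx⟩ := MulAction.exists_smul_eq ↥X a b
      have h1 := h (x⁻¹ * n * x) (by simpa using hNn.conj_mem n hn x⁻¹)
      rw [mul_smul, mul_smul, hx, inv_smul_eq_iff, hx] at h1
      exact h1
    rcases eq_or_ne b a with rfl | hb
    · exact ⟨1, N.one_mem, one_smul _ _⟩
    · obtain ⟨i, hi⟩ := horb _ hna
      obtain ⟨j, hj⟩ := horb b hb
      obtain ⟨k, hk⟩ : ∃ k : ℕ, (σ' ^ k) • (n • a) = b := by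
        refine ⟨17 - i % 17 + j, ?_⟩
        show ((σ' ^ (17 - i % 17 + j) : ↥X) : Equiv.Perm Ω) (n • a) = b
        rw [SubgroupClass.coe_pow, ← hi, ← Equiv.Perm.mul_apply, ← pow_add, ← hj,
          pow_eq_pow_iff_modEq.2 (show 17 - i % 17 + j + i ≡ j [MOD orderOf σ] by
            rw [hord]; unfold Nat.ModEq; omega)]
      refine ⟨σ' ^ k * n * (σ' ^ k)⁻¹, hNn.conj_mem n hn _, ?_⟩
      have hfix : (σ' ^ k)⁻¹ • a = a := by
        rw [inv_smul_eq_iff]
        show a = ((σ' ^ k : ↥X) : Equiv.Perm Ω) a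
        rw [SubgroupClass.coe_pow, hσn]
      rw [mul_smul, mul_smul, hfix, hk]
  have hnorm18 : ∀ N : Subgroup ↥X, N.Normal → N ≠ ⊥ → 18 ∣ Nat.card N := by
    intro N hNn hN1
    haveI : MulAction.IsPretransitive ↥N Ω := ⟨fun b c => by
      obtain ⟨n, hn, hnb⟩ := hnorm N hNn hN1 b
      obtain ⟨m, hm, hmc⟩ := hnorm N hNn hN1 c
      refine ⟨⟨m, hm⟩ * ⟨n, hn⟩⁻¹, ?_⟩
      show (m * n⁻¹) • b = c
      rw [mul_smul, ← hnb, inv_smul_smul, hmc]⟩
    rw [← hΩ, ← MulAction.index_stabilizer_of_transitive ↥N a]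
    exact Subgroup.index_dvd_card _
  have hXnt : ¬ Group.IsSolvable ↥X := by
    intro hs
    obtain ⟨n, hn⟩ := Group.isSolvable_def _ |>.1 hs
    have hσne : (⊤ : Subgroup ↥X) ≠ ⊥ := by
      intro h
      have : σ' ∈ (⊥ : Subgroup ↥X) := h ▸ Subgroup.mem_top _
      exact hσ1 (congrArg Subtype.val (Subgroup.mem_bot.1 this))
    have hex : ∃ k, derivedSeries ↥X k ≠ ⊥ ∧ derivedSeries ↥X (k + 1) = ⊥ := by
      by_contra hc
      push Not at hc
      have : ∀ k, derivedSeries ↥X k ≠ ⊥ := by
        intro k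
        induction k with
        | zero => exact hσne
        | succ k ih => exact hc k ih
      exact this n hn
    obtain ⟨k, hk1, hk2⟩ := hex
    set A := derivedSeries ↥X k
    have hab : ∀ u ∈ A, ∀ v ∈ A, u * v = v * u := by
      intro u hu v hv
      refine commutatorElement_eq_one_iff_mul_comm.1 (Subgroup.mem_bot.1 ?_)
      rw [← hk2, derivedSeries_succ]
      exact Subgroup.commutator_mem_commutator hu hv
    have hAn : A.Normal := derivedSeries_normal ↥X k
    let B : Subgroup ↥X :=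
      { carrier := {u | u ∈ A ∧ u ^ 2 = 1}
        one_mem' := ⟨A.one_mem, one_pow 2⟩
        mul_mem' := fun {u v} hu hv => ⟨A.mul_mem hu.1 hv.1, by
          rw [(show Commute u v from hab u hu.1 v hv.1).mul_pow, hu.2, hv.2, mul_one]⟩
        inv_mem' := fun {u} hu => ⟨A.inv_mem hu.1, by rw [inv_pow, hu.2, inv_one]⟩ }
    have hBn : B.Normal := ⟨fun u hu x => ⟨hAn.conj_mem u hu.1 x, by rw [conj_pow, hu.2]; group⟩⟩
    have h18A := hnorm18 A hAn hk1
    haveI : Fact (Nat.Prime 2) := ⟨Nat.prime_two⟩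
    obtain ⟨u, hu⟩ := exists_prime_orderOf_dvd_card' (G := A) 2 ((show 2 ∣ 18 by norm_num).trans h18A)
    have huB : (u : ↥X) ∈ B := ⟨u.2, by
      rw [← SubgroupClass.coe_pow, ← hu, pow_orderOf_eq_one]; rfl⟩
    have hB1 : B ≠ ⊥ := fun h => by
      have h' : (u : ↥X) = 1 := Subgroup.mem_bot.1 (h ▸ huB)
      rw [show u = 1 from Subtype.ext h', orderOf_one] at hu
      omega
    have hB2 : IsPGroup 2 B := fun v => ⟨1, Subtype.ext (by simpa using v.2.2)⟩
    obtain ⟨m, hm⟩ := IsPGroup.iff_card.1 hB2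
    have h3 : 3 ∣ 2 ^ m := hm ▸ (show 3 ∣ 18 by norm_num).trans (hnorm18 B hBn hB1)
    have h32 := (Nat.prime_three.dvd_of_dvd_pow h3)
    norm_num at h32
  -- the perfect core
  obtain ⟨n, hn⟩ : ∃ n, derivedSeries ↥X n = derivedSeries ↥X (n + 1) := by
    by_contra hc
    push Not at hc
    have hdec : ∀ k, Nat.card (derivedSeries ↥X k) + k ≤ Nat.card (derivedSeries ↥X 0) := by
      intro k
      induction k with
      | zero => simp
      | succ k ih =>
        have hle : derivedSeries ↥X (k + 1) ≤ derivedSeries ↥X k := derivedSeries_antitone ↥X (Nat.le_succ k)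
        have hlt : Nat.card (derivedSeries ↥X (k + 1)) < Nat.card (derivedSeries ↥X k) := by
          refine lt_of_le_of_ne (Subgroup.card_le_of_le hle) fun h => hc k ?_
          exact (Subgroup.eq_of_le_of_card_ge hle h.ge).symm
        omega
    have := hdec (Nat.card (derivedSeries ↥X 0) + 1)
    omega
  set D := derivedSeries ↥X n with hD
  have hDn : D.Normal := derivedSeries_normal ↥X n
  haveI := hDn
  have hD1 : D ≠ ⊥ := fun h => hXnt ((Group.isSolvable_def _).2 ⟨n, h⟩)
  have hperf : commutator ↥D = ⊤ := by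
    apply Subgroup.map_injective D.subtype_injective
    rw [commutator_def, Subgroup.map_commutator, ← MonoidHom.range_eq_map, Subgroup.range_subtype, hD]
    rw [← derivedSeries_succ, ← hn]
  have hDtr := hnorm D hDn hD1
  have hcent' : Subgroup.centralizer (D : Set ↥X) = ⊥ := by
    by_contra hne
    haveI : (Subgroup.centralizer (D : Set ↥X)).Normal := inferInstance
    obtain ⟨z, hz, hza⟩ := hnorm _ inferInstance hne b₀
    obtain ⟨d, hd, hdb⟩ := hDtr b₀
    -- centralising elements commuting with a transitive group fixing a point are trivial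
    have hD18 := hnorm18 D hDn hD1
    have hC18 := hnorm18 _ inferInstance hne
    have hinj2 : Nat.card ↥(Subgroup.centralizer (D : Set ↥X)) ≤ Nat.card Ω := by
      refine Nat.card_le_card_of_injective (fun z => (z : ↥X) • a) fun z w hzw => Subtype.ext (Subtype.ext ?_)
      refine Equiv.ext fun b => ?_
      obtain ⟨d, hd, rfl⟩ := hDtr b
      show (z : ↥X) • d • a = (w : ↥X) • d • a
      rw [← mul_smul, ← mul_smul, ← z.2 d hd, ← w.2 d hd, mul_smul, mul_smul]
      exact congrArg (d • ·) hzw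
    rw [hΩ] at hinj2
    have hcard18 : Nat.card ↥(Subgroup.centralizer (D : Set ↥X)) = 18 :=
      le_antisymm hinj2 (Nat.le_of_dvd Nat.card_pos hC18)
    -- the element of order 17 centralises a regular normal subgroup
    haveI : Fact (Nat.Prime 2) := ⟨Nat.prime_two⟩
    haveI : Fact (Nat.Prime 3) := ⟨Nat.prime_three⟩
    obtain ⟨R⟩ : Nonempty (Sylow 3 ↥(Subgroup.centralizer (D : Set ↥X))) := inferInstance
    have hR9 : Nat.card (R : Subgroup ↥(Subgroup.centralizer (D : Set ↥X))) = 9 := by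
      rw [R.card_eq_multiplicity, hcard18, show (18 : ℕ) = 3 ^ 2 * 2 by norm_num,
        Nat.factorization_mul (by norm_num) (by norm_num), Nat.prime_three.factorization_pow,
        Finsupp.add_apply, Finsupp.single_eq_same, Nat.factorization_eq_zero_of_not_dvd (by norm_num : ¬ 3 ∣ 2)]
      norm_num
    have hi2 : (R : Subgroup ↥(Subgroup.centralizer (D : Set ↥X))).index = 2 := by
      have h := Subgroup.index_mul_card (R : Subgroup ↥(Subgroup.centralizer (D : Set ↥X)))
      rw [hR9, hcard18] at h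
      omega
    haveI := Subgroup.normal_of_index_eq_two hi2
    haveI := R.characteristic_of_normal inferInstance
    have h9 := hnorm18 ((R : Subgroup _).map (Subgroup.centralizer (D : Set ↥X)).subtype) inferInstance (by
      intro h
      have h' := Subgroup.card_map_of_injective (K := (R : Subgroup _))
        (Subgroup.centralizer (D : Set ↥X)).subtype_injective
      rw [h, Subgroup.card_bot, hR9] at h'
      omega)
    rw [Subgroup.card_map_of_injective (Subgroup.centralizer (D : Set ↥X)).subtype_injective, hR9] at h9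
    norm_num at h9
  refine ⟨D, hDn, hcent', ?_⟩
  have hD18 := hnorm18 D hDn hD1
  have hDdvd : Nat.card D ∣ 4896 := (Subgroup.card_subgroup_dvd_card D).trans hcardX
  -- 17 divides the order of D
  have h17 : σ' ∈ D := by
    by_contra hσD
    have hnd : ¬ 17 ∣ Nat.card D := by
      intro h
      obtain ⟨P⟩ : Nonempty (Sylow 17 ↥X) := inferInstance
      obtain ⟨y, hy⟩ := exists_prime_orderOf_dvd_card' (G := D) 17 h
      -- the Sylow subgroups have order 17
      have hcardP : ∀ Q : Sylow 17 ↥X, Nat.card (Q : Subgroup ↥X) = 17 := by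
        intro Q
        obtain ⟨m, hm⟩ := IsPGroup.iff_card.1 Q.isPGroup'
        have h1 : 17 ^ m ∣ 4896 := hm ▸ (Subgroup.card_subgroup_dvd_card _).trans hcardX
        have h2 : 17 ∣ Nat.card (Q : Subgroup ↥X) := Q.dvd_card_of_dvd_card (hord' ▸ orderOf_dvd_natCard σ')
        rw [hm] at h2 ⊢
        rcases Nat.lt_or_ge m 2 with hm2 | hm2
        · interval_cases m
          · norm_num at h2
          · norm_num
        · have h3 := (pow_dvd_pow 17 hm2).trans h1
          norm_num at h3
      obtain ⟨Q, hQ⟩ := (IsPGroup.of_card (p := 17) (n := 1) (by rw [hcardC, pow_one] : Nat.card C = 17 ^ 1)).exists_le_sylow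
      obtain ⟨R, hR⟩ := (IsPGroup.of_card (p := 17) (n := 1) (by
        rw [Nat.card_zpowers, Subgroup.orderOf_coe, hy, pow_one] :
          Nat.card (Subgroup.zpowers (y : ↥X)) = 17 ^ 1)).exists_le_sylow
      have hQC : C = (Q : Subgroup ↥X) := Subgroup.eq_of_le_of_card_ge hQ (by rw [hcardC, hcardP])
      have hRy : Subgroup.zpowers (y : ↥X) = (R : Subgroup ↥X) :=
        Subgroup.eq_of_le_of_card_ge hR (by rw [Nat.card_zpowers, Subgroup.orderOf_coe, hy, hcardP])
      obtain ⟨x, hx⟩ := MulAction.exists_smul_eq ↥X R Q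
      have hσQ : σ' ∈ ((x • R : Sylow 17 ↥X) : Subgroup ↥X) := by rw [hx, ← hQC]; exact Subgroup.mem_zpowers σ'
      have hσQ' : σ' ∈ MulAut.conj x • (R : Subgroup ↥X) := hσQ
      rw [Subgroup.mem_pointwise_smul_iff_inv_smul_mem, MulAut.smul_def, MulAut.conj_inv_apply, ← hRy] at hσQ'
      have h4 : x⁻¹ * σ' * x ∈ D := (Subgroup.zpowers_le.2 y.2) hσQ'
      have h5 := hDn.conj_mem _ h4 x
      rw [show x * (x⁻¹ * σ' * x) * x⁻¹ = σ' by group] at h5
      exact hσD h5
    -- then the point stabiliser in D is trivial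
    have hco : Nat.card D ∣ 288 := by
      refine (Nat.Coprime.dvd_mul_right ?_).1 (show Nat.card D ∣ 288 * 17 from hDdvd.trans (by norm_num))
      exact ((Nat.Prime.coprime_iff_not_dvd (by norm_num)).2 hnd).symm
    haveI : MulAction.IsPretransitive ↥D Ω := ⟨fun b c => by
      obtain ⟨u, hu, hub⟩ := hDtr b
      obtain ⟨v, hv, hvc⟩ := hDtr c
      refine ⟨⟨v, hv⟩ * ⟨u, hu⟩⁻¹, ?_⟩
      show (v * u⁻¹) • b = c
      rw [mul_smul, ← hub, inv_smul_smul, hvc]⟩
    set Da : Subgroup ↥X := D ⊓ Xa with hDa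
    have hDa16 : Nat.card Da ∣ 16 := by
      have h1 : Nat.card Da = Nat.card (MulAction.stabilizer ↥D a) := by
        refine Nat.card_congr ⟨fun z => ⟨⟨z, z.2.1⟩, z.2.2⟩, fun z => ⟨z.1.1, z.1.2, z.2⟩, fun z => rfl, fun z => rfl⟩
      have h2 := Subgroup.index_mul_card (MulAction.stabilizer ↥D a)
      rw [MulAction.index_stabilizer_of_transitive ↥D a, hΩ, ← h1] at h2
      rw [← h2] at hco
      exact Nat.dvd_of_mul_dvd_mul_left (by norm_num : 0 < 18) (show 18 * Nat.card Da ∣ 18 * 16 from hco)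
    have hσa' : σ' ∈ Xa := hσa
    have hfix : ∀ d ∈ Da, d * σ' = σ' * d := by
      intro d hd
      let g : ↥C →* MulAut ↥Da :=
        Da.normalizerMonoidHom.comp (Subgroup.inclusion (by
          rw [hC, Subgroup.zpowers_le]
          refine Subgroup.mem_normalizer_iff.2 fun z => ?_
          constructor
          · rintro ⟨h1, h2⟩
            exact ⟨hDn.conj_mem z h1 σ', Xa.mul_mem (Xa.mul_mem hσa' h2) (Xa.inv_mem hσa')⟩
          · rintro ⟨h1, h2⟩
            refine ⟨?_, ?_⟩
            · have := hDn.conj_mem _ h1 σ'⁻¹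
              simpa [mul_assoc] using this
            · have := Xa.mul_mem (Xa.mul_mem (Xa.inv_mem hσa') h2) hσa'
              simpa [mul_assoc] using this))
      have hp : IsPGroup 17 ↥C := IsPGroup.of_card (n := 1) (by rw [hcardC, pow_one])
      letI : MulAction ↥C ↥Da := MulAction.compHom _ g
      haveI : Finite ↥Da := inferInstance
      have horbit : MulAction.orbit ↥C (⟨d, hd⟩ : ↥Da) = {⟨d, hd⟩} := by
        obtain ⟨m, hm⟩ := hp.card_orbit (⟨d, hd⟩ : ↥Da)
        have hle : Nat.card (MulAction.orbit ↥C (⟨d, hd⟩ : ↥Da)) ≤ 16 :=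
          (Finite.card_subtype_le _).trans (Nat.le_of_dvd (by norm_num) hDa16)
        have hm0 : m = 0 := by
          by_contra hne
          have := Nat.le_self_pow hne 17
          omega
        rw [hm0, pow_zero, Nat.card_eq_one_iff_unique] at hm
        obtain ⟨hss, -⟩ := hm
        refine Set.eq_singleton_iff_unique_mem.2 ⟨MulAction.mem_orbit_self _, fun z hz => ?_⟩
        exact congrArg Subtype.val (Subsingleton.elim (⟨z, hz⟩ : MulAction.orbit ↥C (⟨d, hd⟩ : ↥Da))
          ⟨_, MulAction.mem_orbit_self _⟩)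
      have h := MulAction.mem_orbit (⟨d, hd⟩ : ↥Da) (⟨σ', Subgroup.mem_zpowers σ'⟩ : ↥C)
      rw [horbit, Set.mem_singleton_iff] at h
      have h' : σ' * d * σ'⁻¹ = d := congrArg Subtype.val h
      exact (mul_inv_eq_iff_eq_mul.1 h').symm
    have hDa1 : Da = ⊥ := by
      refine (Subgroup.eq_bot_iff_forall _).2 fun d hd => ?_
      have hdC := hmemC d (hcent d hd.2 (congrArg Subtype.val (hfix d hd)))
      by_contra hd1
      apply hσD
      have hdvd : orderOf d ∣ 17 := by
        have := orderOf_dvd_natCard (⟨d, hdC⟩ : ↥C)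
        rwa [hcardC, ← Subgroup.orderOf_coe] at this
      rcases (Nat.dvd_prime (by norm_num)).1 hdvd with h | h
      · exact absurd (orderOf_eq_one_iff.1 h) hd1
      · have : C = Subgroup.zpowers d := (Subgroup.eq_of_le_of_card_ge (Subgroup.zpowers_le.2 hdC)
          (by rw [hcardC, Nat.card_zpowers, h])).symm
        exact (Subgroup.zpowers_le.2 hd.1) (this ▸ Subgroup.mem_zpowers σ')
    have hD18' : Nat.card D = 18 := by
      have h1 : Nat.card Da = Nat.card (MulAction.stabilizer ↥D a) := by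
        refine Nat.card_congr ⟨fun z => ⟨⟨z, z.2.1⟩, z.2.2⟩, fun z => ⟨z.1.1, z.1.2, z.2⟩, fun z => rfl, fun z => rfl⟩
      have h2 := Subgroup.index_mul_card (MulAction.stabilizer ↥D a)
      rw [MulAction.index_stabilizer_of_transitive ↥D a, hΩ, ← h1, hDa1, Subgroup.card_bot, mul_one] at h2
      exact h2.symm
    -- a perfect group of order 18 does not exist
    haveI : Fact (Nat.Prime 3) := ⟨Nat.prime_three⟩
    obtain ⟨R⟩ : Nonempty (Sylow 3 ↥D) := inferInstance
    have hR9 : Nat.card (R : Subgroup ↥D) = 9 := by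
      rw [R.card_eq_multiplicity, hD18', show (18 : ℕ) = 3 ^ 2 * 2 by norm_num,
        Nat.factorization_mul (by norm_num) (by norm_num), Nat.prime_three.factorization_pow,
        Finsupp.add_apply, Finsupp.single_eq_same, Nat.factorization_eq_zero_of_not_dvd (by norm_num : ¬ 3 ∣ 2)]
      norm_num
    have hi2 : (R : Subgroup ↥D).index = 2 := by
      have h := Subgroup.index_mul_card (R : Subgroup ↥D)
      rw [hR9, hD18'] at h
      omega
    haveI := Subgroup.normal_of_index_eq_two hi2
    haveI : Fact (Nat.Prime 2) := ⟨Nat.prime_two⟩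
    have hq : Nat.card (↥D ⧸ (R : Subgroup ↥D)) = 2 := hi2
    haveI : IsCyclic (↥D ⧸ (R : Subgroup ↥D)) := isCyclic_of_prime_card hq
    have hle : commutator ↥D ≤ (R : Subgroup ↥D) :=
      Subgroup.Normal.quotient_commutative_iff_commutator_le.1 ⟨⟨fun u v => by
        letI := IsCyclic.commGroup (α := ↥D ⧸ (R : Subgroup ↥D))
        exact mul_comm u v⟩⟩
    rw [hperf, top_le_iff] at hle
    rw [hle, Subgroup.index_top] at hi2
    omega
  -- apply the theorem of Brauer and Reynolds
  have h17D : 17 ∣ Nat.card D := by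
    have := orderOf_dvd_natCard (⟨σ', h17⟩ : ↥D)
    rwa [← Subgroup.orderOf_coe, hord'] at this
  obtain ⟨P₀⟩ : Nonempty (Sylow 17 ↥D) := inferInstance
  have hP : ¬ (P₀ : Subgroup ↥D).Normal := by
    intro hPn
    haveI := hPn
    haveI := P₀.characteristic_of_normal hPn
    have h := hnorm18 ((P₀ : Subgroup ↥D).map D.subtype) inferInstance (by
      intro h
      have h' := P₀.dvd_card_of_dvd_card h17D
      rw [← Subgroup.card_map_of_injective D.subtype_injective, h, Subgroup.card_bot] at h'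
      norm_num at h')
    rw [Subgroup.card_map_of_injective D.subtype_injective] at h
    obtain ⟨m, hm⟩ := IsPGroup.iff_card.1 P₀.isPGroup'
    rw [hm] at h
    have h3 := (show 3 ∣ 18 by norm_num).trans h
    have := Nat.prime_three.dvd_of_dvd_pow h3
    norm_num at this
  have h2 : ∀ N : Subgroup ↥D, N.Normal → Nat.card N ≠ 2 := by
    intro N hNn hc
    obtain ⟨u, hu1⟩ : ∃ u : ↥N, u ≠ 1 := by
      haveI : Nontrivial ↥N := Finite.one_lt_card_iff_nontrivial.1 (by omega)
      exact exists_ne 1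
    have huall : ∀ d : ↥D, d * u * d⁻¹ = u := by
      intro d
      have hmem := hNn.conj_mem u u.2 d
      by_contra hne
      haveI : Fintype ↥N := Fintype.ofFinite _
      have h3 : 3 ≤ Fintype.card ↥N := by
        have : ({⟨_, hmem⟩, u, 1} : Finset ↥N).card = 3 := by
          rw [Finset.card_insert_of_notMem, Finset.card_pair hu1]
          simp only [Finset.mem_insert, Finset.mem_singleton, Subtype.ext_iff, Subgroup.coe_one]
          rintro (h | h)
          · exact hne (Subtype.ext (Subtype.ext h))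
          · have h' : d * (u : ↥D) * d⁻¹ = 1 := Subtype.ext (Subtype.ext h)
            rw [conj_eq_one_iff] at h'
            exact hu1 (Subtype.ext h')
        rw [← this]
        exact Finset.card_le_univ _
      rw [Nat.card_eq_fintype_card] at hc
      omega
    have hz : ((u : ↥D) : ↥X) ∈ D ⊓ Subgroup.centralizer (D : Set ↥X) := by
      refine ⟨(u : ↥D).2, fun d hd => ?_⟩
      have := congrArg Subtype.val (huall ⟨d, hd⟩)
      exact mul_inv_eq_iff_eq_mul.1 this
    rw [hcent', inf_bot_eq, Subgroup.mem_bot] at hz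
    exact hu1 (Subtype.ext (Subtype.ext hz))
  have hlt : Nat.card D < 17 ^ 3 := lt_of_le_of_lt (Nat.le_of_dvd (by norm_num) hDdvd) (by norm_num)
  rcases CfsgLib.BrauerReynolds.main hperf 17 h17D hlt P₀ hP h2 with
    ⟨K, _, _, hK, -, ⟨e⟩⟩ | ⟨m, K, _, _, hK, hm, -, ⟨e⟩⟩
  · exact ⟨e.trans (pslFieldCongr (FiniteField.ringEquivOfCardEq (hK.trans hF.symm)))⟩
  · exfalso
    have hm16 : (2 : ℕ) ^ m = 16 := by omega
    have h := Nat.card_congr e.toEquiv
    rw [CfsgLib.SL2.card_SL2, hK, hm16] at h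
    rw [h] at hDdvd
    norm_num at hDdvd

end CfsgLib.SylSeventeen
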